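import Groth.Agent.Lib.ConsLim.Models
import Groth.Agent.Lib.LimSmooth.Reduction
import Groth.Agent.Lib.FlatLimit.Affine
import Groth.Agent.Lib.LimDesc.Proper
import Groth.Agent.Lib.LimDesc.Snd

/-!
# Noetherian models of a proper morphism into a smooth scheme, flat over the base
-/

set_option autoImplicit false
set_option backward.isDefEq.respectTransparency false
set_option linter.style.haveILetI false
universe u

open CategoryTheory Limits AlgebraicGeometry Opposite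

noncomputable section

namespace GrothLib.FibreIso6

open GrothLib.LimDesc GrothLib.LimDescend GrothLib.LimSmooth

theorem exists_good_model {A : Type u} [CommRing A] {X Y : Scheme.{u}} (f : X ⟶ Y)
    (g : Y ⟶ Spec (CommRingCat.of A)) [Smooth g] [QuasiCompact g] [QuasiSeparated g] [IsProper f]
    [Flat (f ≫ g)] [LocallyOfFinitePresentation (f ≫ g)] :
    ∃ (S₀ X₀ Y₀ : Scheme.{u}) (π : Spec (CommRingCat.of A) ⟶ S₀) (f₀ : X₀ ⟶ Y₀) (g₀ : Y₀ ⟶ S₀)
      (qX : X ⟶ X₀) (qY : Y ⟶ Y₀), IsNoetherian S₀ ∧ Smooth g₀ ∧ IsProper f₀ ∧ Flat (f₀ ≫ g₀) ∧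
      LocallyOfFinitePresentation (f₀ ≫ g₀) ∧ QuasiCompact g₀ ∧ QuasiSeparated g₀ ∧
      IsPullback qY g g₀ π ∧ IsPullback qX f f₀ qY ∧ (IsProper g → IsProper g₀) := by
  let g₁ : Y ⟶ (fgCone A).pt := g
  haveI : Smooth g₁ := ‹Smooth g›
  haveI : QuasiCompact g₁ := ‹QuasiCompact g›
  haveI : QuasiSeparated g₁ := ‹QuasiSeparated g›
  haveI : Flat (f ≫ g₁) := ‹Flat (f ≫ g)›
  haveI : LocallyOfFinitePresentation (f ≫ g₁) := ‹LocallyOfFinitePresentation (f ≫ g)›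
  obtain ⟨i, X₀, Y₀, f₀, g₀, qX, qY, _, _, _, _, _, _, hY, hX⟩ := ConsLim.exists_model_mor f g
  let D := fgDiagram A
  replace hY : IsPullback qY g₁ g₀ ((fgCone A).π.app i) := hY
  let hc := isLimitFgCone A
  have hXY : IsPullback qX (f ≫ g₁) (f₀ ≫ g₀) ((fgCone A).π.app i) := hX.paste_vert hY
  haveI : CompactSpace Y₀ := QuasiCompact.compactSpace_of_compactSpace g₀
  haveI : QuasiSeparatedSpace Y₀ := quasiSeparatedSpace_of_quasiSeparated g₀
  haveI : CompactSpace X₀ := QuasiCompact.compactSpace_of_compactSpace (f₀ ≫ g₀)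
  haveI : QuasiSeparatedSpace X₀ := quasiSeparatedSpace_of_quasiSeparated (f₀ ≫ g₀)
  haveI : LocallyOfFiniteType f₀ := locallyOfFiniteType_of_comp f₀ g₀
  have hid : IsPullback ((fgCone A).π.app i) (𝟙 (fgCone A).pt) (𝟙 (D.obj i)) ((fgCone A).π.app i) :=
    IsPullback.of_id_fst.flip
  obtain ⟨j₁, φ₁, h₁⟩ := exists_snd_of_exists_stage D @Smooth g₀
    (exists_stage_of_affineCase D hc g₀ (𝟙 _) hid hY @Smooth smooth_comp_openImmersion affineCase_smooth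
      ‹Smooth g₁›)
  obtain ⟨j₂, φ₂, h₂⟩ := exists_snd_of_exists_stage D @Flat (f₀ ≫ g₀)
    (exists_stage_of_affineCase D hc (f₀ ≫ g₀) (𝟙 _) hid hXY @Flat
      (fun a b _ ha => by haveI : Flat a := ha; infer_instance) affineCase_flat ‹Flat (f ≫ g₁)›)
  obtain ⟨j₃, h₃⟩ := exists_isProper D hc f₀ g₀ hY hX
  obtain ⟨m, ψ₁, ψ₂, -⟩ : ∃ (m : Over i) (_ : m ⟶ Over.mk φ₁) (_ : m ⟶ Over.mk φ₂), True :=
    ⟨_, IsCofiltered.minToLeft _ _, IsCofiltered.minToRight _ _, trivial⟩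
  obtain ⟨j₄, h₄⟩ : ∃ j : Over i, IsProper g₁ → IsProper (pullback.snd g₀ (D.map j.hom)) := by
    by_cases hp : IsProper g₁
    · obtain ⟨j, φ, hj⟩ := exists_snd_of_exists_stage D @IsProper g₀ (exists_isProper D hc g₀ (𝟙 _) hid hY)
      exact ⟨Over.mk φ, fun _ => hj⟩
    · exact ⟨Over.mk (𝟙 i), fun h => absurd h hp⟩
  let k := IsCofiltered.min (IsCofiltered.min m j₄) j₃
  let a₁ : k ⟶ Over.mk φ₁ := IsCofiltered.minToLeft _ j₃ ≫ IsCofiltered.minToLeft m j₄ ≫ ψ₁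
  let a₂ : k ⟶ Over.mk φ₂ := IsCofiltered.minToLeft _ j₃ ≫ IsCofiltered.minToLeft m j₄ ≫ ψ₂
  let a₃ : k ⟶ j₃ := IsCofiltered.minToRight _ j₃
  let a₄ : k ⟶ j₄ := IsCofiltered.minToLeft _ j₃ ≫ IsCofiltered.minToRight m j₄
  let N := mapNat D i g₀ (f₀ ≫ g₀) f₀ rfl
  let rY := (cone (c := fgCone A) D i g₀ hY).π.app k
  let rX := (cone (c := fgCone A) D i (f₀ ≫ g₀) hXY).π.app k
  have hrY : IsPullback rY g₁ (pullback.snd g₀ (D.map k.hom)) ((fgCone A).π.app k.left) := by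
    refine IsPullback.of_right ?_ (π_snd (c := fgCone A) D i g₀ hY k) (IsPullback.of_hasPullback g₀ (D.map k.hom))
    rw [π_fst, (fgCone A).w]
    exact hY
  have hrX : IsPullback rX f (N.app k) rY :=
    isPullback_π D i g₀ (f₀ ≫ g₀) hY f₀ rfl hXY f hX.w.symm rfl k
  have hcomp : N.app k ≫ pullback.snd g₀ (D.map k.hom) = pullback.snd (f₀ ≫ g₀) (D.map k.hom) :=
    mapNat_snd D i g₀ (f₀ ≫ g₀) f₀ rfl k
  refine ⟨D.obj k.left, _, _, (fgCone A).π.app k.left, N.app k, pullback.snd g₀ (D.map k.hom), rX, rY,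
    inferInstance, snd_of_hom D g₀ @Smooth a₁ h₁,
    MorphismProperty.of_isPullback (P := @IsProper) (isPullback_mapNat_map D i g₀ (f₀ ≫ g₀) f₀ rfl a₃) h₃,
    ?_, ?_, MorphismProperty.pullback_snd _ _ ‹QuasiCompact g₀›,
    MorphismProperty.pullback_snd _ _ ‹QuasiSeparated g₀›, hrY, hrX,
    fun hp => snd_of_hom D g₀ @IsProper a₄ (h₄ hp)⟩
  · rw [hcomp]; exact snd_of_hom D (f₀ ≫ g₀) @Flat a₂ h₂
  · rw [hcomp]; exact MorphismProperty.pullback_snd _ _ ‹LocallyOfFinitePresentation (f₀ ≫ g₀)›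

end GrothLib.FibreIso6
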